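import Groth.Agent.FpqcDescent.Basic

/-!
# fpqc descent of affine, integral and finite morphisms
-/

set_option autoImplicit false
set_option backward.isDefEq.respectTransparency.types false
universe u
open CategoryTheory CategoryTheory.Limits AlgebraicGeometry MorphismProperty

namespace Groth.Agent.FpqcDescent

lemma appLE_top_top {X Y : Scheme.{u}} (f : X ⟶ Y) (h : (⊤ : X.Opens) ≤ f ⁻¹ᵁ ⊤) :
    f.appLE ⊤ ⊤ h = f.appTop :=
  Scheme.Hom.appLE_eq_app f

/-- A qcqs scheme over an affine base is affine if it becomes affine after a faithfully flat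
affine base change. -/
lemma isAffine_of_isAffine_pullback {R S : CommRingCat.{u}} {Y : Scheme.{u}} (φ : R ⟶ S)
    (g : Y ⟶ Spec R) [Flat (Spec.map φ)] [Surjective (Spec.map φ)]
    [QuasiCompact g] [QuasiSeparated g] [IsAffine (pullback g (Spec.map φ))] : IsAffine Y := by
  have : CompactSpace Y := QuasiCompact.compactSpace_of_compactSpace g
  have : QuasiSeparatedSpace Y := quasiSeparatedSpace_of_quasiSeparated g
  let H := IsPullback.of_hasPullback g (Spec.map φ)
  have hiso := isIso_pushoutSection_of_isQuasiSeparated_of_flat_right H (US := ⊤) (UT := ⊤)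
    (UX := ⊤) (UY := ⊤) le_top le_top (by simp) (isAffineOpen_top _) (isAffineOpen_top _)
    (by simpa using isCompact_univ) (by simpa using isQuasiSeparated_univ)
  have hP := (isIso_pushoutSection_iff ..).mp hiso
  simp only [appLE_top_top] at hP
  have hbot : IsPullback (Spec.map (pullback.fst g (Spec.map φ)).appTop)
      (Spec.map (pullback.snd g (Spec.map φ)).appTop) (Spec.map g.appTop)
      (Spec.map (Spec.map φ).appTop) := hP.op.flip.map Scheme.Spec
  have houter : IsPullback (pullback.fst g (Spec.map φ))
      ((pullback g (Spec.map φ)).toSpecΓ ≫ Spec.map (pullback.snd g (Spec.map φ)).appTop)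
      (Y.toSpecΓ ≫ Spec.map g.appTop) (Spec.map (Spec.map φ).appTop) := by
    rw [← Scheme.toSpecΓ_naturality, ← Scheme.toSpecΓ_naturality]
    exact IsPullback.of_iso H (Iso.refl _) (Iso.refl _) (asIso (Spec S).toSpecΓ)
      (asIso (Spec R).toSpecΓ) (by simp) (by simp) (by simp)
      (by simpa using (Scheme.toSpecΓ_naturality (Spec.map φ)))
  have htop : IsPullback (pullback.fst g (Spec.map φ)) (pullback g (Spec.map φ)).toSpecΓ
      Y.toSpecΓ (Spec.map (pullback.fst g (Spec.map φ)).appTop) :=
    IsPullback.of_bot houter (by rw [Scheme.toSpecΓ_naturality]) hbot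
  have hb : (@Surjective ⊓ @Flat : MorphismProperty Scheme.{u})
      (Spec.map (Spec.map φ).appTop) := by
    have heq : Spec.map (Spec.map φ).appTop =
        inv (Spec S).toSpecΓ ≫ Spec.map φ ≫ (Spec R).toSpecΓ := by
      rw [Scheme.toSpecΓ_naturality (Spec.map φ), IsIso.inv_hom_id_assoc]
    rw [heq]
    exact ⟨inferInstance, inferInstance⟩
  have hf : (@Surjective ⊓ @Flat : MorphismProperty Scheme.{u})
      (Spec.map (pullback.fst g (Spec.map φ)).appTop) :=
    MorphismProperty.of_isPullback (P := @Surjective ⊓ @Flat) hbot.flip hb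
  have : IsIso Y.toSpecΓ :=
    of_isPullback_of_descendsAlong (P := isomorphisms Scheme.{u})
      (Q := @Surjective ⊓ @Flat ⊓ @QuasiCompact) htop.flip ⟨hf, inferInstance⟩
      (inferInstanceAs (IsIso (pullback g (Spec.map φ)).toSpecΓ))
  exact ⟨this⟩

/-- Affineness of morphisms satisfies fpqc descent. -/
lemma isAffineHom_descendsAlong :
    MorphismProperty.DescendsAlong @IsAffineHom
      (@Surjective ⊓ @Flat ⊓ @QuasiCompact : MorphismProperty Scheme.{u}) := by
  have := quasiCompact_descendsAlong.{u}
  have := quasiSeparated_descendsAlong.{u}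
  refine IsZariskiLocalAtTarget.descendsAlong_inf_quasiCompact _ _ ?_ ?_
  · rw [inf_comm]
    exact inf_le_inf le_rfl (IsLocalIso.le_of_isZariskiLocalAtSource _)
  intro R S Y φ g hφ hfst
  have : Surjective (Spec.map φ) := hφ.1
  have : Flat (Spec.map φ) := hφ.2
  have : IsAffineHom (pullback.fst (Spec.map φ) g) := hfst
  have : QuasiCompact g := of_pullback_fst_of_descendsAlong (P := @QuasiCompact)
    (Q := @Surjective ⊓ @Flat ⊓ @QuasiCompact) (f := Spec.map φ) ⟨hφ, inferInstance⟩ inferInstance
  have : QuasiSeparated g := of_pullback_fst_of_descendsAlong (P := @QuasiSeparated)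
    (Q := @Surjective ⊓ @Flat ⊓ @QuasiCompact) (f := Spec.map φ) ⟨hφ, inferInstance⟩ inferInstance
  have : IsAffine (pullback (Spec.map φ) g) := isAffine_of_isAffineHom (pullback.fst (Spec.map φ) g)
  have : IsAffine (pullback g (Spec.map φ)) := .of_isIso (pullbackSymmetry _ _).hom
  have : IsAffine Y := isAffine_of_isAffine_pullback φ g
  infer_instance

/-- Integrality of morphisms satisfies fpqc descent. -/
lemma isIntegralHom_descendsAlong :
    MorphismProperty.DescendsAlong @IsIntegralHom
      (@Surjective ⊓ @Flat ⊓ @QuasiCompact : MorphismProperty Scheme.{u}) := by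
  have := isAffineHom_descendsAlong.{u}
  rw [IsIntegralHom.eq_universallyClosed_inf_isAffineHom]
  infer_instance

/-- Finiteness of morphisms satisfies fpqc descent. -/
lemma isFinite_descendsAlong :
    MorphismProperty.DescendsAlong @IsFinite
      (@Surjective ⊓ @Flat ⊓ @QuasiCompact : MorphismProperty Scheme.{u}) := by
  have := isIntegralHom_descendsAlong.{u}
  rw [IsFinite.eq_inf]
  infer_instance

end Groth.Agent.FpqcDescent
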