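import Mathlib

/-!
# fpqc descent of global properties of morphisms of schemes

Quasi-compact, quasi-separated, separated, closed immersion, proper.
-/

set_option autoImplicit false
set_option backward.isDefEq.respectTransparency.types false
universe u
open CategoryTheory CategoryTheory.Limits AlgebraicGeometry MorphismProperty

namespace Groth.Agent.FpqcDescent

/-- Quasi-compactness descends along surjective quasi-compact morphisms. -/
lemma quasiCompact_descendsAlong_surjective :
    MorphismProperty.DescendsAlong @QuasiCompact
      (@Surjective ⊓ @QuasiCompact : MorphismProperty Scheme.{u}) := by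
  apply DescendsAlong.mk'
  intro X Y Z f g _ hf hfst
  have : Surjective f := hf.1
  have : QuasiCompact f := hf.2
  have : QuasiCompact (pullback.fst f g) := hfst
  refine ⟨fun U hUo hUc ↦ ?_⟩
  have hs : Surjective (pullback.snd f g) := MorphismProperty.pullback_snd _ _ inferInstance
  lift U to Z.Opens using hUo
  have h1 : IsCompact (f ⁻¹ᵁ U : Set X) :=
    QuasiCompact.isCompact_preimage _ U.2 hUc
  have h2 : IsCompact (pullback.fst f g ⁻¹ᵁ (f ⁻¹ᵁ U) : Set ↥(pullback f g)) :=
    QuasiCompact.isCompact_preimage _ (f ⁻¹ᵁ U).2 h1
  have h3 := h2.image (pullback.snd f g).continuous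
  convert h3 using 1
  have : pullback.fst f g ⁻¹ᵁ (f ⁻¹ᵁ U) = pullback.snd f g ⁻¹ᵁ (g ⁻¹ᵁ U) := by
    rw [← Scheme.Hom.comp_preimage, pullback.condition, Scheme.Hom.comp_preimage]
  rw [this]
  exact (Set.image_preimage_eq _ hs.surj).symm

/-- Quasi-compactness satisfies fpqc descent. -/
lemma quasiCompact_descendsAlong :
    MorphismProperty.DescendsAlong @QuasiCompact
      (@Surjective ⊓ @Flat ⊓ @QuasiCompact : MorphismProperty Scheme.{u}) :=
  have := quasiCompact_descendsAlong_surjective.{u}
  .of_le (Q := @Surjective ⊓ @QuasiCompact) (fun _ _ _ h ↦ ⟨h.1.1, h.2⟩)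

/-- Quasi-separatedness satisfies fpqc descent. -/
lemma quasiSeparated_descendsAlong :
    MorphismProperty.DescendsAlong @QuasiSeparated
      (@Surjective ⊓ @Flat ⊓ @QuasiCompact : MorphismProperty Scheme.{u}) := by
  have := quasiCompact_descendsAlong.{u}
  rw [quasiSeparated_eq_diagonal_is_quasiCompact]
  infer_instance

/-- Being a monomorphism satisfies fpqc descent. -/
lemma monomorphisms_descendsAlong :
    MorphismProperty.DescendsAlong (MorphismProperty.monomorphisms Scheme.{u})
      (@Surjective ⊓ @Flat ⊓ @QuasiCompact : MorphismProperty Scheme.{u}) := by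
  rw [← diagonal_isomorphisms]
  infer_instance

lemma isProper_of_universallyClosed_of_locallyOfFiniteType_of_mono {X Y : Scheme.{u}} (f : X ⟶ Y)
    [UniversallyClosed f] [LocallyOfFiniteType f] [Mono f] : IsProper f where

/-- Being a closed immersion satisfies fpqc descent. -/
lemma isClosedImmersion_descendsAlong :
    MorphismProperty.DescendsAlong @IsClosedImmersion
      (@Surjective ⊓ @Flat ⊓ @QuasiCompact : MorphismProperty Scheme.{u}) := by
  apply DescendsAlong.mk'
  intro X Y Z f g _ hf hfst
  have : IsClosedImmersion (pullback.fst f g) := hfst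
  have := monomorphisms_descendsAlong.{u}
  have : Mono g := of_pullback_fst_of_descendsAlong (P := MorphismProperty.monomorphisms Scheme)
    hf (inferInstanceAs (Mono (pullback.fst f g)))
  have : UniversallyClosed g := of_pullback_fst_of_descendsAlong (P := @UniversallyClosed)
    (Q := @Surjective ⊓ @Flat ⊓ @QuasiCompact) hf inferInstance
  have : LocallyOfFiniteType g := of_pullback_fst_of_descendsAlong (P := @LocallyOfFiniteType)
    (Q := @Surjective ⊓ @Flat ⊓ @QuasiCompact) hf inferInstance
  rw [IsClosedImmersion.iff_isProper_and_mono]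
  exact ⟨isProper_of_universallyClosed_of_locallyOfFiniteType_of_mono g, inferInstance⟩

/-- Separatedness satisfies fpqc descent. -/
lemma isSeparated_descendsAlong :
    MorphismProperty.DescendsAlong @IsSeparated
      (@Surjective ⊓ @Flat ⊓ @QuasiCompact : MorphismProperty Scheme.{u}) := by
  have := isClosedImmersion_descendsAlong.{u}
  rw [IsSeparated.isSeparated_eq_diagonal_isClosedImmersion]
  infer_instance

/-- Properness satisfies fpqc descent. -/
lemma isProper_descendsAlong :
    MorphismProperty.DescendsAlong @IsProper
      (@Surjective ⊓ @Flat ⊓ @QuasiCompact : MorphismProperty Scheme.{u}) := by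
  have := isSeparated_descendsAlong.{u}
  rw [isProper_eq]
  infer_instance

end Groth.Agent.FpqcDescent
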